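import Groth.Agent.Lib.NormalSmooth12.Basic
import Groth.Agent.Lib.UnitsRos.Char
import Mathlib.AlgebraicGeometry.FunctionField
import Mathlib.AlgebraicGeometry.Morphisms.Finite
import Mathlib.FieldTheory.Minpoly.IsIntegrallyClosed

/-!
# Global functions under finite surjective morphisms to normal schemes

* `exists_monic`: a global function is integral over the global functions of the target.
* `antiAffine_iff`: anti-affineness is invariant under finite surjective morphisms of smooth connected groups.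
-/

set_option autoImplicit false
set_option linter.style.haveILetI false
set_option backward.isDefEq.respectTransparency.types false
universe u

open CategoryTheory MonoidalCategory CartesianMonoidalCategory MonObj AlgebraicGeometry TopologicalSpace Opposite
open scoped Polynomial

noncomputable section

namespace Groth.Agent.AffRep19

section

variable {X Y : Scheme.{u}} [IsIntegral X] [IsIntegral Y] (f : X ⟶ Y) [Surjective f]

theorem generic_specializes : genericPoint Y ⤳ f (genericPoint X) ∧ f (genericPoint X) ⤳ genericPoint Y := by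
  refine ⟨(genericPoint_spec Y).specializes trivial, ?_⟩
  obtain ⟨x, hx⟩ := f.surjective (genericPoint Y)
  exact hx ▸ ((genericPoint_spec X).specializes trivial).map f.continuous

/-- The extension of function fields. -/
def funMap : Y.functionField ⟶ X.functionField :=
  Y.presheaf.stalkSpecializes (generic_specializes f).2 ≫ f.stalkMap (genericPoint X)

theorem funMap_germ (U : Y.Opens) (hU : genericPoint Y ∈ U) (hU' : genericPoint X ∈ f ⁻¹ᵁ U) :
    Y.presheaf.germ U _ hU ≫ funMap f = f.app U ≫ X.presheaf.germ (f ⁻¹ᵁ U) _ hU' := by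
  rw [funMap, TopCat.Presheaf.germ_stalkSpecializes_assoc, Scheme.Hom.germ_stalkMap]

/-- Global functions upstairs are integral over those downstairs. -/
theorem exists_monic [IsFinite f]
    (hn : ∀ U : Y.Opens, IsAffineOpen U → (U : Set Y).Nonempty → IsIntegrallyClosed Γ(Y, U))
    (s : Γ(X, ⊤)) : ∃ P : Γ(Y, ⊤)[X], P.Monic ∧ P.eval₂ f.appTop.hom s = 0 := by
  classical
  letI : Algebra Y.functionField X.functionField := (funMap f).hom.toAlgebra
  set ŝ : X.functionField := X.presheaf.germ ⊤ _ trivial s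
  set Q : Y.functionField[X] := minpoly Y.functionField ŝ
  let J := {U : Y.Opens // IsAffineOpen U ∧ (U : Set Y).Nonempty}
  have hgen : ∀ U : J, genericPoint Y ∈ U.1 := fun U =>
    ((genericPoint_spec Y).mem_open_set_iff U.1.isOpen).mpr (by simpa using U.2.2)
  have hmain : ∀ U : J, IsIntegral Γ(Y, ⊤) (0 : Γ(Y, ⊤)) → IsIntegral Y.functionField ŝ ∧
      ∀ i, ∃ r : Γ(Y, U.1), Y.presheaf.germ U.1 _ (hgen U) r = Q.coeff i := by
    intro U _
    haveI : Nonempty U.1 := ⟨⟨_, hgen U⟩⟩
    have hU' : genericPoint X ∈ f ⁻¹ᵁ U.1 := ((generic_specializes f).2).mem_open U.1.isOpen (hgen U)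
    haveI : Nonempty (f ⁻¹ᵁ U.1) := ⟨⟨_, hU'⟩⟩
    haveI := hn U.1 U.2.1 U.2.2
    haveI := functionField_isFractionRing_of_isAffineOpen Y U.1 U.2.1
    letI : Algebra Γ(Y, U.1) X.functionField := ((funMap f).hom.comp (algebraMap Γ(Y, U.1) Y.functionField)).toAlgebra
    haveI : IsScalarTower Γ(Y, U.1) Y.functionField X.functionField := IsScalarTower.of_algebraMap_eq fun _ => rfl
    have hint : IsIntegral Γ(Y, U.1) ŝ := by
      letI : Algebra Γ(Y, U.1) Γ(X, f ⁻¹ᵁ U.1) := (f.app U.1).hom.toAlgebra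
      have hfin : (f.app U.1).hom.Finite := f.finite_app U.1 U.2.1
      haveI : Module.Finite Γ(Y, U.1) Γ(X, f ⁻¹ᵁ U.1) := hfin
      let g : Γ(X, f ⁻¹ᵁ U.1) →ₐ[Γ(Y, U.1)] X.functionField :=
        { (X.presheaf.germ (f ⁻¹ᵁ U.1) _ hU').hom with
          commutes' := fun r => (ConcreteCategory.congr_hom (funMap_germ f U.1 (hgen U) hU') r).symm }
      have : g (X.presheaf.map (homOfLE le_top).op s) = ŝ :=
        TopCat.Presheaf.germ_res_apply X.presheaf _ _ _ _
      rw [← this]
      exact (Algebra.IsIntegral.isIntegral _).map g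
    refine ⟨hint.tower_top, fun i => ⟨(minpoly Γ(Y, U.1) ŝ).coeff i, ?_⟩⟩
    show algebraMap Γ(Y, U.1) Y.functionField _ = _
    rw [← Polynomial.coeff_map, ← minpoly.isIntegrallyClosed_eq_field_fractions' Y.functionField hint]
  have h0 : IsIntegral Γ(Y, ⊤) (0 : Γ(Y, ⊤)) := isIntegral_zero
  have hcov : (⊤ : Y.Opens) ≤ ⨆ U : J, U.1 := fun y _ => by
    obtain ⟨U, hU, hyU, -⟩ := exists_isAffineOpen_mem_and_subset (X := Y) (x := y) (U := ⊤) trivial
    exact Opens.mem_iSup.2 ⟨⟨U, hU, ⟨y, hyU⟩⟩, hyU⟩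
  -- the coefficients are global
  have hcoef : ∀ i, ∃ c : Γ(Y, ⊤), Y.presheaf.germ ⊤ _ trivial c = Q.coeff i := by
    intro i
    choose r hr using fun U : J => (hmain U h0).2 i
    have hc : TopCat.Presheaf.IsCompatible Y.sheaf.1 (fun U : J => U.1) r := by
      intro U V
      apply germ_injective_of_isIntegral Y (genericPoint Y) (U := U.1 ⊓ V.1) ⟨hgen U, hgen V⟩
      refine (TopCat.Presheaf.germ_res_apply Y.presheaf _ _ _ _).trans
        ((hr U).trans ((hr V).symm.trans (TopCat.Presheaf.germ_res_apply Y.presheaf _ _ _ _).symm))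
    obtain ⟨F, hF, -⟩ := Y.sheaf.existsUnique_gluing' (fun U : J => U.1) ⊤ (fun U => homOfLE le_top) hcov r hc
    obtain ⟨U, -⟩ := Opens.mem_iSup.1 (hcov (show genericPoint Y ∈ (⊤ : Y.Opens) from trivial))
    refine ⟨F, ?_⟩
    rw [← hr U, ← hF U]
    exact (TopCat.Presheaf.germ_res_apply Y.presheaf _ _ _ _).symm
  obtain ⟨U, -⟩ := Opens.mem_iSup.1 (hcov (show genericPoint Y ∈ (⊤ : Y.Opens) from trivial))
  have hQint : IsIntegral Y.functionField ŝ := (hmain U h0).1
  have hlift : Q ∈ Polynomial.lifts (Y.presheaf.germ ⊤ _ trivial).hom :=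
    (Polynomial.lifts_iff_coeff_lifts _).mpr fun i => hcoef i
  obtain ⟨P, hP, -, hmon⟩ := Polynomial.lifts_and_degree_eq_and_monic hlift (minpoly.monic hQint)
  refine ⟨P, hmon, ?_⟩
  apply germ_injective_of_isIntegral X (genericPoint X) (U := ⊤) trivial
  rw [map_zero, Polynomial.hom_eval₂]
  have : (X.presheaf.germ ⊤ (genericPoint X) trivial).hom.comp f.appTop.hom =
      (funMap f).hom.comp (Y.presheaf.germ ⊤ (genericPoint Y) trivial).hom :=
    congrArg CommRingCat.Hom.hom (funMap_germ f ⊤ trivial trivial).symm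
  rw [this, ← Polynomial.eval₂_map, hP]
  exact minpoly.aeval Y.functionField ŝ

theorem appTop_injective : Function.Injective f.appTop := by
  intro a b hab
  refine germ_injective_of_isIntegral Y (genericPoint Y) (U := ⊤) trivial ((funMap f).hom.injective ?_)
  have := congrArg (X.presheaf.germ ⊤ (genericPoint X) trivial) hab
  rw [← CommRingCat.comp_apply, ← CommRingCat.comp_apply] at this
  rw [show f.appTop ≫ X.presheaf.germ ⊤ (genericPoint X) trivial = _ from (funMap_germ f ⊤ trivial trivial).symm] at this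
  exact this

end

variable {k : Type u} [Field k]

/-- Affine opens of smooth integral schemes over fields are normal. -/
theorem isIntegrallyClosed_of_smooth {X : Scheme.{u}} [IsIntegral X] (g : X ⟶ Spec (CommRingCat.of k))
    [Smooth g] (U : X.Opens) (hU : IsAffineOpen U) (hne : (U : Set X).Nonempty) :
    IsIntegrallyClosed Γ(X, U) := by
  haveI : Nonempty U := ⟨⟨_, hne.some_mem⟩⟩
  have hs : ((Scheme.ΓSpecIso (CommRingCat.of k)).inv ≫ g.appLE ⊤ U le_top).hom.Smooth := by
    have := g.smooth_appLE (isAffineOpen_top _) hU (le_top : U ≤ g ⁻¹ᵁ ⊤)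
    exact (RingHom.Smooth.of_bijective (f := (Scheme.ΓSpecIso (CommRingCat.of k)).inv.hom)
      (ConcreteCategory.bijective_of_isIso _)).comp this
  have hN := NormalSmooth12.isNormalRing_of_smooth_field _ hs
  refine IsIntegrallyClosed.of_localization_maximal fun p _ hp => ?_
  exact (hN p).2

/-- Anti-affineness is invariant under finite surjective homomorphisms. -/
theorem antiAffine_iff {G H : Over (Spec (CommRingCat.of k))} [GrpObj G] [GrpObj H] [Smooth G.hom]
    [ConnectedSpace G.left] [Smooth H.hom] [ConnectedSpace H.left] (f : G ⟶ H) [IsFinite f.left]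
    [Surjective f.left] :
    Function.Surjective ((Scheme.ΓSpecIso (CommRingCat.of k)).inv ≫ G.hom.appTop).hom ↔
      Function.Surjective ((Scheme.ΓSpecIso (CommRingCat.of k)).inv ≫ H.hom.appTop).hom := by
  haveI := UnitsRos.isIntegral_of_group G
  haveI := UnitsRos.isIntegral_of_group H
  set σ := ((Scheme.ΓSpecIso (CommRingCat.of k)).inv ≫ G.hom.appTop).hom
  set τ := ((Scheme.ΓSpecIso (CommRingCat.of k)).inv ≫ H.hom.appTop).hom
  have hστ : f.left.appTop.hom.comp τ = σ := congrArg CommRingCat.Hom.hom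
    (show ((Scheme.ΓSpecIso (CommRingCat.of k)).inv ≫ H.hom.appTop) ≫ f.left.appTop = _ by
      rw [Category.assoc, ← Scheme.Hom.comp_appTop, Over.w f])
  refine ⟨fun h t => ?_, fun h => ?_⟩
  · obtain ⟨c, hc⟩ := h (f.left.appTop t)
    exact ⟨c, appTop_injective f.left ((RingHom.congr_fun hστ c).trans hc)⟩
  letI : Algebra k Γ(G.left, ⊤) := σ.toAlgebra
  haveI : Algebra.IsIntegral k Γ(G.left, ⊤) := ⟨fun s => by
    obtain ⟨P, hP, hev⟩ := exists_monic f.left (isIntegrallyClosed_of_smooth H.hom) s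
    have hl : P ∈ Polynomial.lifts τ := (Polynomial.lifts_iff_coeff_lifts _).mpr fun i => h _
    obtain ⟨R, hR, -, hRm⟩ := Polynomial.lifts_and_degree_eq_and_monic hl hP
    refine ⟨R, hRm, ?_⟩
    rw [← hR, Polynomial.eval₂_map, hστ] at hev
    exact hev⟩
  haveI : Nonempty G.left := ⟨η[G].left (IsLocalRing.closedPoint k)⟩
  letI := (isField_of_isIntegral_of_isField' (R := k) (S := Γ(G.left, ⊤)) (Field.toIsField k)).toField
  let r : Γ(G.left, ⊤) →+* k := (η[G].left.appTop ≫ (Scheme.ΓSpecIso (CommRingCat.of k)).hom).hom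
  intro s
  refine ⟨r s, r.injective ?_⟩
  show r (σ (r s)) = r s
  have : r.comp σ = RingHom.id k := congrArg CommRingCat.Hom.hom
    (show ((Scheme.ΓSpecIso (CommRingCat.of k)).inv ≫ G.hom.appTop) ≫
        η[G].left.appTop ≫ (Scheme.ΓSpecIso (CommRingCat.of k)).hom = 𝟙 _ by
      rw [Category.assoc, ← Scheme.Hom.comp_appTop_assoc, Over.w η[G]]
      show _ ≫ (𝟙 (Spec (CommRingCat.of k)) : _ ⟶ _).appTop ≫ _ = _
      simp)
  exact RingHom.congr_fun this (r s)

end Groth.Agent.AffRep19
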