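import Groth.Agent.Lib.AffGrp19.Fixed
import Groth.Agent.Lib.AffGrp19.AntiAff

/-!
# An anti-affine group fixing a point of an integral scheme acts trivially
-/

set_option autoImplicit false
set_option linter.style.haveILetI false
set_option backward.isDefEq.respectTransparency.types false
universe u

open CategoryTheory MonoidalCategory CartesianMonoidalCategory MonObj AlgebraicGeometry

noncomputable section

namespace Groth.Agent.AffRep19

variable {k : Type u} [Field k]

theorem act_eq_snd {G X : Over (Spec (CommRingCat.of k))} [GrpObj G] [LocallyOfFiniteType G.hom]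
    [QuasiCompact G.hom] [IsSeparated X.hom] [IsIntegral X.left] [IsLocallyNoetherian X.left]
    (hG : Function.Bijective (AffGrp19.structRing G).hom) (a : AlgGrp.Action G X)
    (x : 𝟙_ (Over (Spec (CommRingCat.of k))) ⟶ X) (hx : a.IsFixedPt x) : a.act = snd G X := by
  haveI : QuasiSeparated G.hom := AlgGrpBasic19.quasiSeparatedSpace
  haveI : Flat (𝟙 G : G ⟶ G).left := inferInstanceAs (Flat (𝟙 G.left))
  haveI : Surjective (𝟙 G : G ⟶ G).left := inferInstanceAs (Surjective (𝟙 G.left))
  have h1 : (𝟙 G) ≫ 𝟙 G ≫ AffGrp19.toAff G = 1 := by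
    rw [Category.id_comp, Category.id_comp]
    obtain ⟨w, hw⟩ := AffGrp19.exists_const hG (AffGrp19.toAff G)
    have h := congrArg (η[G] ≫ ·) hw
    simp only [IsMonHom.one_hom] at h
    rw [← Category.assoc, toUnit_unique (η[G] ≫ toUnit G) (𝟙 _), Category.id_comp] at h
    rw [hw, ← h, MonObj.one_eq_one, MonObj.comp_one]
  have := AffGrp19.eq_of_thick_integral
    (CartesianMonoidalCategory.lift (fst G X ≫ 𝟙 G) (snd G X) ≫ a.act) (snd G X) _
    (AffGrp19.act_thick a x hx (𝟙 G)
      (fun T g y hg => by rw [Category.comp_id] at hg; rw [hg, AlgGrpBasic19.act_one]) (𝟙 G) h1)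
  rwa [Category.comp_id, lift_fst_snd, Category.id_comp] at this

end Groth.Agent.AffRep19
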