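import Groth.Agent.Lib.AffRep19.Rep
import Groth.Agent.Lib.DiagGL.Chars
import Groth.Prelude.Def_FrameBundle

/-!
# Anti-affine groups and homomorphisms to `GL_n`
-/

set_option autoImplicit false
set_option linter.style.haveILetI false
set_option backward.isDefEq.respectTransparency.types false
universe u

open CategoryTheory MonoidalCategory CartesianMonoidalCategory MonObj AlgebraicGeometry

noncomputable section

namespace Groth.Agent.AffRep19

variable {k : Type u} [Field k]

/-- Matrix coordinates on `GL_n` over any base. -/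
def matsFrB (S : Scheme.{u}) (n : ℕ) : DiagGL.Mats n (FrB.GLn n S) :=
  (DiagGL.matsGLn (ULift.{u} ℤ) n).baseChange _ _

/-- A matrix representation as a homomorphism. -/
theorem exists_hom {G : Over (Spec (CommRingCat.of k))} [GrpObj G] {n : ℕ} (ρ : MatHom G n) :
    ∃ r : G ⟶ FrB.GLn n (Spec (CommRingCat.of k)), IsMonHom r ∧
      ∀ {T : Over (Spec (CommRingCat.of k))} (x : T ⟶ G),
        (matsFrB (Spec (CommRingCat.of k)) n).mat (x ≫ r) = ρ.R x := by
  set Mt := matsFrB (Spec (CommRingCat.of k)) n
  obtain ⟨r, hr⟩ := Mt.surj (ρ.isUnit (𝟙 G))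
  have hall : ∀ {T : Over (Spec (CommRingCat.of k))} (x : T ⟶ G), Mt.mat (x ≫ r) = ρ.R x := fun x => by
    rw [Mt.nat, hr, ← ρ.nat, Category.comp_id]
  refine ⟨r, { one_hom := Mt.inj ?_, mul_hom := Mt.inj ?_ }, hall⟩
  · rw [hall, MonObj.one_eq_one, MonObj.one_eq_one, ρ.one]
    exact (Mt.one _).symm
  · rw [hall, MonObj.mul_eq_mul, MonObj.mul_eq_mul, ρ.mul, MonObj.comp_mul, Mt.mul]
    congr 1
    · rw [tensorHom_fst, hall]
    · rw [tensorHom_snd, hall]

/-- Homomorphisms from an anti-affine group to an affine one are trivial. -/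
theorem hom_eq_one {G H : Over (Spec (CommRingCat.of k))} [GrpObj G] [GrpObj H] [LocallyOfFiniteType G.hom]
    [QuasiCompact G.hom] [IsAffine H.left] (hG : Function.Bijective (AffGrp19.structRing G).hom) (r : G ⟶ H)
    [IsMonHom r] : r = 1 := by
  haveI : QuasiSeparated G.hom := AlgGrpBasic19.quasiSeparatedSpace
  obtain ⟨w, rfl⟩ := AffGrp19.exists_const hG r
  have h1 : η[G] ≫ toUnit G ≫ w = η[H] := IsMonHom.one_hom _
  rw [← Category.assoc, toUnit_unique (η[G] ≫ toUnit G) (𝟙 _), Category.id_comp] at h1
  rw [h1, MonObj.one_eq_one, MonObj.comp_one]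

/-- The structure map of global functions of a pointed scheme is injective. -/
theorem injective_struct {M : Over (Spec (CommRingCat.of k))}
    (e : 𝟙_ (Over (Spec (CommRingCat.of k))) ⟶ M) : Function.Injective (AffGrp19.structRing M).hom := by
  intro a b hab
  have := congrArg e.left.appTop hab
  rw [← CommRingCat.comp_apply, ← CommRingCat.comp_apply, Category.assoc, ← Scheme.Hom.comp_appTop,
    Over.w e] at this
  exact (Scheme.ΓSpecIso (CommRingCat.of k)).commRingCatIsoToRingEquiv.symm.injective this

end Groth.Agent.AffRep19
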