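import Groth.Agent.Lib.AffRep19.GL
import Groth.Agent.Lib.AffGrp19.Thick
import Groth.Prelude.Def_VecGrp

/-!
# Natural functions on the affine points of a scheme; representations of anti-affine groups on modules
-/

set_option autoImplicit false
set_option linter.style.haveILetI false
set_option backward.isDefEq.respectTransparency.types false
universe u

open CategoryTheory MonoidalCategory CartesianMonoidalCategory MonObj AlgebraicGeometry TopologicalSpace Opposite
open scoped TensorProduct

noncomputable section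

namespace Groth.Agent.AffRep19

variable {k : Type u} [Field k]

theorem ptMap_chart (G : Over (Spec (CommRingCat.of k))) {V W : G.left.Opens} (hV : IsAffineOpen V)
    (hW : IsAffineOpen W) (hVW : V ≤ W) :
    letI := AffGrp19.algOf G V
    letI := AffGrp19.algOf G W
    ∃ res : Γ(G.left, W) →ₐ[k] Γ(G.left, V), (∀ s, res s = G.left.presheaf.map (homOfLE hVW).op s) ∧
      VecGrp.ptMap res ≫ AffGrp19.chart G W hW = AffGrp19.chart G V hV := by
  letI := AffGrp19.algOf G V
  letI := AffGrp19.algOf G W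
  let res : Γ(G.left, W) →ₐ[k] Γ(G.left, V) :=
    { (G.left.presheaf.map (homOfLE hVW).op).hom with
      commutes' := fun c => by
        show ((Scheme.ΓSpecIso (CommRingCat.of k)).inv ≫ G.hom.appLE ⊤ W le_top ≫
          G.left.presheaf.map (homOfLE hVW).op) c =
          ((Scheme.ΓSpecIso (CommRingCat.of k)).inv ≫ G.hom.appLE ⊤ V le_top) c
        rw [Scheme.Hom.appLE_map] }
  exact ⟨res, fun _ => rfl, Over.OverMorphism.ext (IsAffineOpen.map_fromSpec hW hV (homOfLE hVW).op)⟩

/-- A natural function on the affine points of a scheme without non-constant functions is constant. -/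
theorem exists_const_of_natural (G : Over (Spec (CommRingCat.of k)))
    (hG : Function.Surjective (AffGrp19.structRing G).hom)
    (f : ∀ (B : Type u) [CommRing B] [Algebra k B], (VecGrp.pt k B ⟶ G) → B)
    (hf : ∀ {B B' : Type u} [CommRing B] [Algebra k B] [CommRing B'] [Algebra k B'] (φ : B →ₐ[k] B')
      (g : VecGrp.pt k B ⟶ G), φ (f B g) = f B' (VecGrp.ptMap φ ≫ g)) :
    ∃ c : k, ∀ (B : Type u) [CommRing B] [Algebra k B] (g : VecGrp.pt k B ⟶ G), f B g = algebraMap k B c := by
  let J := {V : G.left.Opens // IsAffineOpen V}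
  let s : ∀ V : J, Γ(G.left, V.1) := fun V =>
    letI := AffGrp19.algOf G V.1
    f Γ(G.left, V.1) (AffGrp19.chart G V.1 V.2)
  have hres : ∀ (V W : J) (h : V.1 ≤ W.1), G.left.presheaf.map (homOfLE h).op (s W) = s V := fun V W h => by
    letI := AffGrp19.algOf G V.1
    letI := AffGrp19.algOf G W.1
    obtain ⟨res, hr, he⟩ := ptMap_chart G V.2 W.2 h
    rw [← hr]
    exact (hf res _).trans (congrArg (f Γ(G.left, V.1)) he)
  have hc : TopCat.Presheaf.IsCompatible G.left.sheaf.1 (fun V : J => V.1) s := by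
    intro V W
    have hloc : ∀ x : ↥(V.1 ⊓ W.1), ∃ U : J, x.1 ∈ U.1 ∧ U.1 ≤ V.1 ⊓ W.1 := fun x => by
      obtain ⟨U, hU, hxU, hle⟩ := exists_isAffineOpen_mem_and_subset (X := G.left) x.2
      exact ⟨⟨U, hU⟩, hxU, hle⟩
    choose U hxU hUle using hloc
    refine G.left.sheaf.eq_of_locally_eq' (fun x => (U x).1) (V.1 ⊓ W.1) (fun x => homOfLE (hUle x))
      (fun y hy => Opens.mem_iSup.2 ⟨⟨y, hy⟩, hxU _⟩) _ _ fun x => ?_
    show (G.left.presheaf.map (homOfLE inf_le_left).op ≫ G.left.presheaf.map (homOfLE (hUle x)).op) (s V) =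
      (G.left.presheaf.map (homOfLE inf_le_right).op ≫ G.left.presheaf.map (homOfLE (hUle x)).op) (s W)
    rw [← Functor.map_comp, ← Functor.map_comp, ← op_comp, ← op_comp, homOfLE_comp, homOfLE_comp,
      hres _ _ ((hUle x).trans inf_le_left), hres _ _ ((hUle x).trans inf_le_right)]
  obtain ⟨F, hF, -⟩ := G.left.sheaf.existsUnique_gluing' (fun V : J => V.1) ⊤ (fun V => homOfLE le_top)
    (fun y _ => by
      obtain ⟨U, hU, hyU, -⟩ := exists_isAffineOpen_mem_and_subset (X := G.left) (x := y) (U := ⊤) trivial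
      exact Opens.mem_iSup.2 ⟨⟨U, hU⟩, hyU⟩) s hc
  obtain ⟨c, rfl⟩ := hG F
  refine ⟨c, fun B _ _ g => ?_⟩
  have hsc : ∀ V : J, letI := AffGrp19.algOf G V.1; s V = algebraMap k Γ(G.left, V.1) c := fun V => by
    refine (hF V).symm.trans ?_
    show ((Scheme.ΓSpecIso (CommRingCat.of k)).inv ≫ G.hom.appTop ≫ G.left.presheaf.map (homOfLE le_top).op) c =
      ((Scheme.ΓSpecIso (CommRingCat.of k)).inv ≫ G.hom.appLE ⊤ V.1 le_top) c
    rfl
  -- locally on `Spec B`
  let T : Set B := {r | algebraMap B (Localization.Away r) (f B g) =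
    algebraMap B (Localization.Away r) (algebraMap k B c)}
  have hT : Ideal.span T = ⊤ := by
    by_contra hne
    obtain ⟨m, hm, hle⟩ := Ideal.exists_le_maximal _ hne
    let p : PrimeSpectrum B := ⟨m, hm.isPrime⟩
    obtain ⟨W, hW, hpW, -⟩ := exists_isAffineOpen_mem_and_subset (X := G.left) (x := g.left p) (U := ⊤) trivial
    obtain ⟨_, ⟨r, rfl⟩, hpr, hsub⟩ := Opens.isBasis_iff_nbhd.mp (PrimeSpectrum.isBasis_basic_opens (R := B))
      (show p ∈ (g.left ⁻¹ᵁ W : (Spec (CommRingCat.of B)).Opens) from hpW)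
    refine (show r ∉ m from hpr) (hle (Ideal.subset_span ?_))
    let B' := Localization.Away r
    let φ : B →ₐ[k] B' := IsScalarTower.toAlgHom k B B'
    letI := AffGrp19.algOf G W
    haveI : IsAffine (VecGrp.pt k B').left := inferInstanceAs (IsAffine (Spec _))
    obtain ⟨χ, hχ, hu⟩ := AffGrp19.exists_chart_lift (VecGrp.ptMap φ ≫ g) W hW (fun w => by
      rw [Over.comp_left, Scheme.Hom.comp_apply]
      refine hsub ?_
      have : (PrimeSpectrum.comap (algebraMap B B')) w ∈ PrimeSpectrum.basicOpen r := by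
        rw [← SetLike.mem_coe, ← PrimeSpectrum.localization_away_comap_range B' r]
        exact ⟨w, rfl⟩
      exact this)
    let ψ : Γ(G.left, W) →ₐ[k] B' :=
      { ((Scheme.ΓSpecIso (CommRingCat.of B')).hom.hom.comp χ) with
        commutes' := fun x => by
          show (Scheme.ΓSpecIso (CommRingCat.of B')).hom (χ.comp (algebraMap k Γ(G.left, W)) x) = _
          rw [hχ]
          show (Scheme.ΓSpecIso (CommRingCat.of B')).hom (((Scheme.ΓSpecIso (CommRingCat.of k)).inv ≫
            (Spec.map (CommRingCat.ofHom (algebraMap k B'))).appTop) x) = _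
          rw [← Scheme.ΓSpecIso_inv_naturality]
          exact Iso.inv_hom_id_apply _ _ }
    have hψ : VecGrp.ptMap ψ ≫ AffGrp19.chart G W hW = VecGrp.ptMap φ ≫ g := by
      rw [← hu]
      congr 1
      refine Over.OverMorphism.ext ?_
      show Spec.map (CommRingCat.ofHom χ ≫ (Scheme.ΓSpecIso (CommRingCat.of B')).hom) =
        (Spec (CommRingCat.of B')).toSpecΓ ≫ Spec.map (CommRingCat.ofHom χ)
      rw [Spec.map_comp, SpecMap_ΓSpecIso_hom]
      rfl
    show φ (f B g) = φ (algebraMap k B c)
    rw [φ.commutes, hf φ g, ← hψ, ← hf ψ]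
    exact (congrArg ψ (hsc ⟨W, hW⟩)).trans (ψ.commutes c)
  obtain ⟨T', hT', hspan⟩ := (Ideal.span_eq_top_iff_finite T).mp hT
  have key : ∀ r ∈ T, ∃ n : ℕ, r ^ n * (f B g - algebraMap k B c) = 0 := by
    intro r hr
    obtain ⟨⟨_, n, rfl⟩, hn⟩ := (IsLocalization.eq_iff_exists (Submonoid.powers r) (Localization.Away r)).mp hr
    exact ⟨n, by rw [mul_sub, sub_eq_zero]; exact hn⟩
  choose e he using key
  have htop : Ideal.span ((fun r : T' => r.1 ^ e r.1 (hT' r.2)) '' Set.univ) = ⊤ := by
    rw [Set.image_univ]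
    exact Ideal.span_range_pow_eq_top _ hspan _
  refine sub_eq_zero.mp ?_
  have : (1 : B) ∈ Submodule.annihilator (Submodule.span B {f B g - algebraMap k B c}) := by
    have : Ideal.span ((fun r : T' => r.1 ^ e r.1 (hT' r.2)) '' Set.univ) ≤
        Submodule.annihilator (Submodule.span B {f B g - algebraMap k B c}) := by
      rw [Ideal.span_le]
      rintro _ ⟨r, -, rfl⟩
      rw [SetLike.mem_coe, Submodule.mem_annihilator_span_singleton, smul_eq_mul]
      exact he _ _
    exact this (htop ▸ Submodule.mem_top)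
  rwa [Submodule.mem_annihilator_span_singleton, one_smul] at this

/-- Representations of an anti-affine group on finite-dimensional modules are trivial. -/
theorem gmod_eq_one {G : Over (Spec (CommRingCat.of k))} [GrpObj G]
    (hG : Function.Surjective (AffGrp19.structRing G).hom) {M : Type u} [AddCommGroup M] [Module k M]
    [Module.Finite k M] (m : VecGrp.GMod G M) (B : Type u) [CommRing B] [Algebra k B]
    (g : VecGrp.pt k B ⟶ G) : m.ρ B g = 1 := by
  classical
  let b := Module.finBasis k M
  let f : ∀ i j, ∀ (B : Type u) [CommRing B] [Algebra k B], (VecGrp.pt k B ⟶ G) → B := fun i j B _ _ g =>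
    (b.baseChange B).repr (m.ρ B g (1 ⊗ₜ b j)) i
  have hrepr : ∀ {B B' : Type u} [CommRing B] [Algebra k B] [CommRing B'] [Algebra k B'] (φ : B →ₐ[k] B')
      (x : VecGrp.W k M B) i, φ ((b.baseChange B).repr x i) = (b.baseChange B').repr (VecGrp.Wmap φ x) i := by
    intro B B' _ _ _ _ φ x i
    induction x using TensorProduct.induction_on with
    | zero => simp
    | tmul r v => simp [Algebra.smul_def]
    | add x y hx hy => simp [map_add, hx, hy]
  have hnat : ∀ i j {B B' : Type u} [CommRing B] [Algebra k B] [CommRing B'] [Algebra k B'] (φ : B →ₐ[k] B')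
      (g : VecGrp.pt k B ⟶ G), φ (f i j B g) = f i j B' (VecGrp.ptMap φ ≫ g) := by
    intro i j B B' _ _ _ _ φ g
    show φ _ = _
    rw [hrepr, m.naturality, VecGrp.Wmap_tmul, map_one]
  refine LinearEquiv.toLinearMap_injective ((b.baseChange B).ext fun j => ?_)
  rw [Module.Basis.baseChange_apply]
  refine (b.baseChange B).repr.injective (Finsupp.ext fun i => ?_)
  show f i j B g = (b.baseChange B).repr (1 ⊗ₜ b j) i
  obtain ⟨c, hc⟩ := exists_const_of_natural G hG (f i j) (hnat i j)
  have h1 := hc k 1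
  rw [hc B g, show c = (b.baseChange k).repr (1 ⊗ₜ b j) i by
    rw [← h1.trans (by simp : algebraMap k k c = c)]
    show (b.baseChange k).repr ((m.ρ k 1) (1 ⊗ₜ b j)) i = _
    rw [map_one]
    rfl]
  simp [Finsupp.single_apply, apply_ite (algebraMap k B)]

end Groth.Agent.AffRep19
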