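import Groth.Agent.Lib.AffRep19.Rep
import Groth.Prelude.Def_AlgGrp
import Mathlib.AlgebraicGeometry.Geometrically.Integral
import Mathlib.RingTheory.TensorProduct.MvPolynomial

/-!
# The linear action on affine space attached to a matrix representation
-/

set_option autoImplicit false
set_option linter.style.haveILetI false
set_option backward.isDefEq.respectTransparency.types false
universe u

open CategoryTheory MonoidalCategory CartesianMonoidalCategory MonObj AlgebraicGeometry
open scoped TensorProduct Matrix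

noncomputable section

namespace Groth.Agent.AffRep19

open DiagGL

variable {k : Type u} [Field k]

/-- Affine space. -/
abbrev affSp (k : Type u) [Field k] (n : ℕ) : Over (Spec (CommRingCat.of k)) :=
  CoactBr.sp k (MvPolynomial (Fin n) k)

/-- The coordinates of a point. -/
def vec {n : ℕ} {T : Over (Spec (CommRingCat.of k))} (x : T ⟶ affSp k n) : Fin n → Γ(T.left, ⊤) :=
  fun i => ev (A := MvPolynomial (Fin n) k) x (MvPolynomial.X i)

theorem vec_comp {n : ℕ} {T T' : Over (Spec (CommRingCat.of k))} (t : T' ⟶ T) (x : T ⟶ affSp k n) :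
    vec (t ≫ x) = t.left.appTop ∘ vec x :=
  funext fun i => ev_comp (A := MvPolynomial (Fin n) k) t x _

theorem vec_injective {n : ℕ} {T : Over (Spec (CommRingCat.of k))} {x y : T ⟶ affSp k n}
    (h : vec x = vec y) : x = y := by
  refine ev_injective (A := MvPolynomial (Fin n) k) fun a => RingHom.congr_fun ?_ a
  refine MvPolynomial.ringHom_ext (fun r => ?_) fun i => congrFun h i
  rw [← MvPolynomial.algebraMap_eq]
  exact (ev_algebraMap (A := MvPolynomial (Fin n) k) x r).trans
    (ev_algebraMap (A := MvPolynomial (Fin n) k) y r).symm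

theorem exists_vec {n : ℕ} {T : Over (Spec (CommRingCat.of k))} (v : Fin n → Γ(T.left, ⊤)) :
    ∃ x : T ⟶ affSp k n, vec x = v := by
  refine ⟨mk (MvPolynomial.eval₂Hom (alg T) v) fun r => ?_, funext fun i => ?_⟩
  · rw [MvPolynomial.algebraMap_eq, MvPolynomial.eval₂Hom_C]
  · show ev (mk _ _) _ = _
    rw [ev_mk, MvPolynomial.eval₂Hom_X']

theorem isIntegral_affSp (n : ℕ) : IsIntegral (affSp k n).left :=
  inferInstanceAs (IsIntegral (Spec (CommRingCat.of (MvPolynomial (Fin n) k))))

theorem lft_affSp (n : ℕ) : LocallyOfFiniteType (affSp k n).hom :=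
  (HasRingHomProperty.Spec_iff (P := @LocallyOfFiniteType)).2
    (RingHom.finiteType_algebraMap.2 inferInstance)

theorem geometricallyIntegral_affSp (n : ℕ) : GeometricallyIntegral (affSp k n).hom := by
  constructor
  haveI : ObjectProperty.IsClosedUnderIsomorphisms (fun X : Scheme.{u} => IsIntegral X) :=
    ⟨fun {A B} e h => haveI : Nonempty ↥B := ⟨e.hom (Classical.arbitrary A)⟩; isIntegral_of_isOpenImmersion e.inv⟩
  rw [geometrically_iff_of_commRing_of_isClosedUnderIsomorphisms]
  intro L _ _
  haveI : IsDomain (MvPolynomial (Fin n) k ⊗[k] L) :=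
    MulEquiv.isDomain (MvPolynomial (Fin n) L)
      (((Algebra.TensorProduct.comm k _ L).toRingEquiv.trans
        (MvPolynomial.algebraTensorAlgEquiv k L).toRingEquiv).toMulEquiv)
  haveI : IsIntegral (Spec (CommRingCat.of (MvPolynomial (Fin n) k ⊗[k] L))) := inferInstance
  haveI : Nonempty (Spec (CommRingCat.of (MvPolynomial (Fin n) k ⊗[k] L)) : Scheme.{u}) := inferInstance
  haveI : Nonempty ↥(Limits.pullback (affSp k n).hom (Spec.map (CommRingCat.ofHom (algebraMap k L)))) :=
    ⟨(pullbackSpecIso k (MvPolynomial (Fin n) k) L).inv (Classical.arbitrary _)⟩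
  exact isIntegral_of_isOpenImmersion (pullbackSpecIso k (MvPolynomial (Fin n) k) L).hom

/-- The linear action of a matrix representation. -/
theorem exists_action {G : Over (Spec (CommRingCat.of k))} [GrpObj G] {n : ℕ} (ρ : MatHom G n) :
    ∃ a : AlgGrp.Action G (affSp k n),
      ∀ {T : Over (Spec (CommRingCat.of k))} (g : T ⟶ G) (x : T ⟶ affSp k n),
        vec (lift g x ≫ a.act) = ρ.R g *ᵥ vec x := by
  obtain ⟨act, hact⟩ := exists_vec (k := k) (ρ.R (fst G (affSp k n)) *ᵥ vec (snd G (affSp k n)))
  have h : ∀ {T : Over (Spec (CommRingCat.of k))} (z : T ⟶ G ⊗ affSp k n),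
      vec (z ≫ act) = ρ.R (z ≫ fst _ _) *ᵥ vec (z ≫ snd _ _) := fun z => by
    funext i
    rw [vec_comp, hact, ρ.nat, vec_comp, Function.comp_apply, RingHom.map_mulVec]
  refine ⟨{ act := act, one_act := vec_injective ?_, mul_act := vec_injective ?_ }, fun g x => ?_⟩
  · rw [h, whiskerRight_fst, whiskerRight_snd, MonObj.one_eq_one, MonObj.comp_one, ρ.one,
      Matrix.one_mulVec, leftUnitor_hom]
  · rw [h, whiskerRight_fst, whiskerRight_snd, ← Category.assoc (α_ _ _ _).hom, h, MonObj.mul_eq_mul,
      MonObj.comp_mul, ρ.mul, ← Matrix.mulVec_mulVec]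
    simp only [Category.assoc, whiskerLeft_fst, whiskerLeft_snd, associator_hom_fst]
    rw [← Category.assoc (α_ _ _ _).hom, h]
    simp only [Category.assoc, associator_hom_snd_fst, associator_hom_snd_snd]
  · show vec (lift g x ≫ act) = _
    rw [h, lift_fst, lift_snd]

/-- A non-constant function yields an action on affine space fixing the origin non-trivially. -/
theorem exists_nontrivial_action (G : Over (Spec (CommRingCat.of k))) [GrpObj G] [LocallyOfFiniteType G.hom]
    [QuasiCompact G.hom] (hG : ¬ Function.Surjective (AffGrp19.structRing G).hom) :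
    ∃ (n : ℕ) (a : AlgGrp.Action G (affSp k n)) (x : 𝟙_ (Over (Spec (CommRingCat.of k))) ⟶ affSp k n),
      a.IsFixedPt x ∧ a.act ≠ snd G (affSp k n) := by
  obtain ⟨n, ρ, hρ⟩ := exists_rep G hG
  obtain ⟨a, ha⟩ := exists_action ρ
  obtain ⟨x, hx⟩ := exists_vec (k := k) (T := 𝟙_ (Over (Spec (CommRingCat.of k)))) (n := n) 0
  refine ⟨n, a, x, fun T g => vec_injective ?_, fun hact => hρ ?_⟩
  · have : vec (toUnit T ≫ x) = 0 := by rw [vec_comp, hx]; funext i; simp
    rw [ha, this, Matrix.mulVec_zero]
  · refine Matrix.ext fun i j => ?_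
    obtain ⟨y, hy⟩ := exists_vec (k := k) (T := G) (n := n) (Pi.single j 1)
    have := ha (𝟙 G) y
    rw [hact, lift_snd, hy, Matrix.mulVec_single_one] at this
    rw [show ρ.R (𝟙 G) i j = (ρ.R (𝟙 G)).col j i from rfl, ← this, Matrix.one_apply, Pi.single_apply]

end Groth.Agent.AffRep19
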