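import Groth.Agent.Lib.Blanchard19
import Mathlib.AlgebraicGeometry.Morphisms.Proper

/-!
# Global functions of a complete variety over an algebraically closed field
-/

set_option autoImplicit false
set_option linter.style.haveILetI false
universe u

open CategoryTheory AlgebraicGeometry TopologicalSpace

noncomputable section

namespace Groth.Agent.AffRep19

variable {k : Type u} [Field k] [IsAlgClosed k]

theorem bijective_structure (X : Scheme.{u}) (f : X ⟶ Spec (CommRingCat.of k)) [IsProper f] [IsIntegral X] :
    Function.Bijective ((Scheme.ΓSpecIso (CommRingCat.of k)).inv ≫ f.appTop).hom := by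
  set σ := ((Scheme.ΓSpecIso (CommRingCat.of k)).inv ≫ f.appTop).hom
  letI : Algebra k Γ(X, ⊤) := σ.toAlgebra
  letI := (isField_of_universallyClosed k f).toField
  haveI : Module.Finite k Γ(X, ⊤) := by
    have h1 : f.appTop.hom.Finite := finite_appTop_of_universallyClosed k f
    exact RingHom.Finite.comp h1 (RingHom.Finite.of_surjective _
      (Scheme.ΓSpecIso (CommRingCat.of k)).symm.commRingCatIsoToRingEquiv.surjective)
  refine ⟨σ.injective, ?_⟩
  exact IsAlgClosed.algebraMap_bijective_of_isIntegral.2

theorem bijective_app (X : Scheme.{u}) (f : X ⟶ Spec (CommRingCat.of k)) [IsProper f] [IsIntegral X]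
    (U : (Spec (CommRingCat.of k)).Opens) : Function.Bijective (f.app U) := by
  have hU : U = ⊥ ∨ U = ⊤ := by
    by_cases h : (U : Set (Spec (CommRingCat.of k))).Nonempty
    · exact Or.inr (Opens.ext (Set.eq_univ_iff_forall.mpr fun x => by
        obtain ⟨y, hy⟩ := h
        rwa [Subsingleton.elim (α := PrimeSpectrum k) x y]))
    · exact Or.inl (Opens.ext (Set.not_nonempty_iff_eq_empty.mp h))
  rcases hU with rfl | rfl
  · haveI : Subsingleton Γ(Spec (CommRingCat.of k), ⊥) :=
      CommRingCat.subsingleton_of_isTerminal ((Spec (CommRingCat.of k)).sheaf.isTerminalOfEmpty)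
    haveI : Subsingleton Γ(X, f ⁻¹ᵁ ⊥) :=
      CommRingCat.subsingleton_of_isTerminal (X.sheaf.isTerminalOfEmpty)
    exact ⟨fun a b _ => Subsingleton.elim a b, fun b => ⟨0, Subsingleton.elim _ b⟩⟩
  · have h := bijective_structure X f
    rw [CommRingCat.hom_comp, RingHom.coe_comp] at h
    exact (Function.Bijective.of_comp_iff _
      (Scheme.ΓSpecIso (CommRingCat.of k)).symm.commRingCatIsoToRingEquiv.bijective).mp h

end Groth.Agent.AffRep19
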