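import Groth.Agent.Lib.AffGrp19.AntiAff
import Groth.Agent.Lib.HopfPts19.Scheme
import Groth.Agent.Lib.DiagGL.Points
import Groth.Agent.Lib.Comodule.Basic

/-!
# Groups with non-constant functions have non-trivial matrix representations
-/

set_option autoImplicit false
set_option linter.style.haveILetI false
set_option backward.isDefEq.respectTransparency.types false
universe u

open CategoryTheory MonoidalCategory CartesianMonoidalCategory MonObj AlgebraicGeometry Opposite
open scoped TensorProduct

noncomputable section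

namespace Groth.Agent.AffRep19

open DiagGL

variable {k : Type u} [Field k]

/-- A multiplicative family of matrices on the points of a group. -/
structure MatHom (G : Over (Spec (CommRingCat.of k))) [GrpObj G] (n : ℕ) where
  R : ∀ {T : Over (Spec (CommRingCat.of k))}, (T ⟶ G) → Matrix (Fin n) (Fin n) Γ(T.left, ⊤)
  nat : ∀ {T T' : Over (Spec (CommRingCat.of k))} (t : T' ⟶ T) (x : T ⟶ G),
    R (t ≫ x) = (R x).map t.left.appTop
  one : ∀ T : Over (Spec (CommRingCat.of k)), R (1 : T ⟶ G) = 1
  mul : ∀ {T : Over (Spec (CommRingCat.of k))} (x y : T ⟶ G), R (x * y) = R x * R y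

theorem MatHom.isUnit {G : Over (Spec (CommRingCat.of k))} [GrpObj G] {n : ℕ} (ρ : MatHom G n)
    {T : Over (Spec (CommRingCat.of k))} (x : T ⟶ G) : IsUnit (ρ.R x) :=
  IsUnit.of_mul_eq_one (ρ.R x⁻¹) (by rw [← ρ.mul, mul_inv_cancel, ρ.one])

variable {A : Type u} [CommRing A]

theorem ev_one [Bialgebra k A] (T : Over (Spec (CommRingCat.of k))) (a : A) :
    ev (1 : T ⟶ CoactBr.sp k A) a = alg T (Coalgebra.counit (R := k) a) := by
  letI := (alg T).toAlgebra
  let t : T ⟶ CoactBr.sp k Γ(T.left, ⊤) := Over.homMk T.left.toSpecΓ (can_aux T)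
  rw [← MonObj.comp_one t, CoactBr.one_eq_pt, ev_comp, ev_pt]
  exact (ConcreteCategory.congr_hom (congrArg (fun e => (Scheme.ΓSpecIso _).inv ≫ e)
    (Scheme.toSpecΓ_appTop T.left)) _).trans (ConcreteCategory.congr_hom (Iso.inv_hom_id _) _)

/-- A subcomodule of finite dimension gives matrix coordinates. -/
theorem exists_coeff [Bialgebra k A] (N : Submodule k A) [Module.Finite k N]
    (hN : HopfRep.IsSubcomod (k := k) (A := A) N) :
    ∃ (n : ℕ) (b : Module.Basis (Fin n) k N) (c : Fin n → Fin n → A),
      (∀ i j, Coalgebra.comul (R := k) (c i j) = ∑ l, c i l ⊗ₜ[k] c l j) ∧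
      (∀ i j, Coalgebra.counit (R := k) (c i j) = if i = j then 1 else 0) ∧
      ∀ j, ((b j : A)) = ∑ i, Coalgebra.counit (R := k) (b i : A) • c i j := by
  classical
  let b := Module.finBasis k N
  let e := TensorProduct.equivFinsuppOfBasisLeft (N := A) b
  choose z hz using fun j => hN (b j : A) (b j).2
  let c : Fin (Module.finrank k N) → Fin (Module.finrank k N) → A := fun i j => e (z j) i
  have hexp : ∀ j, Coalgebra.comul (R := k) (b j : A) = ∑ i, (b i : A) ⊗ₜ[k] c i j := by
    intro j
    have : z j = ∑ i, b i ⊗ₜ[k] c i j := by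
      conv_lhs => rw [← e.symm_apply_apply (z j)]
      rw [show e.symm (e (z j)) = (e (z j)).sum fun i m => b i ⊗ₜ[k] m from
        TensorProduct.equivFinsuppOfBasisLeft_symm_apply b (e (z j))]
      exact Finsupp.sum_fintype _ _ fun i => TensorProduct.tmul_zero _ _
    refine (hz j).symm.trans ?_
    rw [this, map_sum]
    rfl
  obtain ⟨p, hp⟩ := N.exists_isCompl
  let coord : Fin (Module.finrank k N) → A →ₗ[k] k := fun l => b.coord l ∘ₗ N.projectionOnto p hp
  have hcoord : ∀ l i, coord l (b i : A) = if i = l then 1 else 0 := fun l i => by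
    simp [coord, Finsupp.single_apply]
  refine ⟨_, b, c, fun l j => ?_, fun l j => ?_, fun j => ?_⟩
  · have h := LinearMap.congr_fun (Coalgebra.coassoc (R := k) (A := A)) (b j : A)
    simp only [LinearMap.comp_apply, LinearEquiv.coe_coe] at h
    rw [hexp, map_sum, map_sum, map_sum] at h
    simp only [LinearMap.rTensor_tmul, LinearMap.lTensor_tmul, hexp, TensorProduct.sum_tmul,
      map_sum, TensorProduct.assoc_tmul] at h
    have h' := congrArg (fun w => TensorProduct.lid k (A ⊗[k] A) ((coord l).rTensor (A ⊗[k] A) w)) h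
    simp only [map_sum, LinearMap.rTensor_tmul, TensorProduct.lid_tmul, hcoord, ite_smul, one_smul,
      zero_smul] at h'
    simp only [Finset.sum_ite_eq', Finset.mem_univ, if_true] at h'
    exact h'.symm
  · have h := LinearMap.congr_fun (Coalgebra.lTensor_counit_comp_comul (R := k) (A := A)) (b j : A)
    simp only [LinearMap.comp_apply, hexp, map_sum, LinearMap.lTensor_tmul, LinearMap.flip_apply,
      TensorProduct.mk_apply] at h
    have h' := congrArg (fun w => TensorProduct.lid k k ((coord l).rTensor k w)) h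
    simp only [map_sum, LinearMap.rTensor_tmul, TensorProduct.lid_tmul, hcoord, ite_smul, one_smul,
      zero_smul, Finset.sum_ite_eq', Finset.mem_univ, if_true] at h'
    rw [h']
    exact if_congr eq_comm rfl rfl
  · have h := LinearMap.congr_fun (Coalgebra.rTensor_counit_comp_comul (R := k) (A := A)) (b j : A)
    simp only [LinearMap.comp_apply, hexp, map_sum, LinearMap.rTensor_tmul, TensorProduct.mk_apply] at h
    have h' := congrArg (TensorProduct.lid k A) h
    simp only [map_sum, TensorProduct.lid_tmul, one_smul] at h'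
    exact h'.symm

/-- A group with a non-constant function has a non-trivial matrix representation. -/
theorem exists_rep (G : Over (Spec (CommRingCat.of k))) [GrpObj G] [LocallyOfFiniteType G.hom]
    [QuasiCompact G.hom] (hG : ¬ Function.Surjective (AffGrp19.structRing G).hom) :
    ∃ (n : ℕ) (ρ : MatHom G n), ρ.R (𝟙 G) ≠ 1 := by
  haveI : QuasiSeparated G.hom := AlgGrpBasic19.quasiSeparatedSpace
  obtain ⟨A, _, _, ⟨e⟩⟩ := HopfPts19.exists_model (AffGrp19.aff G)
  let φ : G ⟶ CoactBr.sp k A := AffGrp19.toAff G ≫ e.inv.hom.hom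
  haveI : IsMonHom e.inv.hom.hom := e.inv.hom.isMonHom_hom
  have hφm : ∀ {T : Over (Spec (CommRingCat.of k))} (x y : T ⟶ G), (x * y) ≫ φ = (x ≫ φ) * (y ≫ φ) :=
    fun x y => by
      show (x * y) ≫ AffGrp19.toAff G ≫ e.inv.hom.hom = _
      rw [← Category.assoc, MonObj.mul_comp, MonObj.mul_comp, Category.assoc, Category.assoc]
      rfl
  have hφ1 : ∀ T : Over (Spec (CommRingCat.of k)), (1 : T ⟶ G) ≫ φ = 1 := fun T => by
    show (1 : T ⟶ G) ≫ AffGrp19.toAff G ≫ e.inv.hom.hom = _
    rw [← Category.assoc, MonObj.one_comp, MonObj.one_comp]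
    rfl
  have hsurj : Function.Surjective (ev (T := G) (A := A) φ) := by
    haveI := (AffGrp19.good_toAff G).appTop_iso
    haveI : IsIso e.inv.hom.hom.left :=
      inferInstanceAs (IsIso ((Grp.forget _ ⋙ Over.forget _).map e.inv))
    haveI : IsIso e.inv.hom.hom.left.appTop := inferInstanceAs (IsIso (Scheme.Γ.map e.inv.hom.hom.left.op))
    haveI : IsIso φ.left.appTop := by
      show IsIso ((AffGrp19.toAff G).left ≫ e.inv.hom.hom.left).appTop
      rw [Scheme.Hom.comp_appTop]
      infer_instance
    exact (ConcreteCategory.bijective_of_isIso φ.left.appTop).2.comp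
      (ConcreteCategory.bijective_of_isIso (Scheme.ΓSpecIso (CommRingCat.of A)).inv).2
  simp only [Function.Surjective, not_forall, not_exists] at hG
  obtain ⟨f, hf⟩ := hG
  obtain ⟨a, ha⟩ := hsurj f
  obtain ⟨N, hN, hfin, haN⟩ := Comodule.exists_finite_subcomod (k := k) (A := A) a
  obtain ⟨n, b, c, hcomul, hcounit, hb⟩ := exists_coeff N hN
  let ρ : MatHom G n :=
    { R := fun {T} x => Matrix.of fun i j => ev (x ≫ φ) (c i j)
      nat := fun t x => by
        ext i j
        simp only [Matrix.map_apply, Matrix.of_apply, Category.assoc]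
        exact ev_comp t (x ≫ φ) _
      one := fun T => by
        ext i j
        rw [Matrix.of_apply, hφ1, ev_one, hcounit, Matrix.one_apply]
        split_ifs <;> simp
      mul := fun {T} x y => by
        letI := (alg T).toAlgebra
        ext i j
        rw [Matrix.of_apply, hφm, ev_mul, Matrix.mul_apply]
        show (Algebra.TensorProduct.lift _ _ _) (Coalgebra.comul (R := k) (c i j)) = _
        simp [hcomul, map_sum] }
  refine ⟨n, ρ, fun h1 => ?_⟩
  have hc : ∀ i j, ev φ (c i j) = if i = j then 1 else 0 := fun i j => by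
    have := congrFun (congrFun h1 i) j
    simpa [ρ, Matrix.one_apply] using this
  have hconst : ∀ w ∈ N, ev φ w = alg G (Coalgebra.counit (R := k) w) := by
    intro w hw
    have hbj : ∀ j, ev φ (b j : A) = alg G (Coalgebra.counit (R := k) (b j : A)) := fun j => by
      conv_lhs => rw [hb j]
      simp [map_sum, Algebra.smul_def, ev_algebraMap, hc]
    have := congrArg Subtype.val (b.sum_repr ⟨w, hw⟩)
    simp only [Submodule.coe_sum, Submodule.coe_smul] at this
    rw [← this]
    simp [map_sum, Algebra.smul_def, ev_algebraMap, hbj]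
  exact hf _ ((hconst a haN).symm.trans ha)

end Groth.Agent.AffRep19
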